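import Mathlib
import Cfsg.Agent.Lib.Helper9.BG1356.Defs
import Cfsg.Agent.Lib.Helper9.CN
import Cfsg.Agent.Lib.Helper4.CNFit
import Cfsg.Agent.Lib.Helper71.Fitting
import Cfsg.Agent.Lib.Helper23.TypeP

/-!
# Package PkgA of the S1356 project (helper9)

`F(M) ≤ C_M(M_F) M_F`: a nilpotent group is the product of a normal Hall subgroup and its
centralizer.
-/

set_option autoImplicit false

namespace Cfsg.Agent.Lib.Helper77.BG1356

open Cfsg

universe u

/-- In a finite group `X`, let `H` be a normal subgroup of order coprime to its index and `F` a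
nilpotent subgroup containing `H`.  Then every element of `F` is `z * h` with `h ∈ H` and
`z ∈ F` centralizing `H`. -/
theorem exists_mul_of_nilpotent_hall {X : Type u} [Group X] [Finite X] (H F : Subgroup X)
    [H.Normal] (hHF : H ≤ F) (hF : Group.IsNilpotent F)
    (hcop : (Nat.card H).Coprime H.index) {x : X} (hx : x ∈ F) :
    ∃ z ∈ F, z ∈ Subgroup.centralizer (H : Set X) ∧ ∃ h ∈ H, x = z * h := by
  obtain ⟨u, v, huv⟩ := Nat.isCoprime_iff_coprime.mpr hcop
  have hxi : x ^ H.index ∈ H := Subgroup.pow_index_mem H x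
  have hcard : x ^ (Nat.card H * H.index) = 1 := by
    rw [Subgroup.card_mul_index]
    exact pow_card_eq_one'
  refine ⟨x ^ (u * (Nat.card H : ℤ)), F.zpow_mem hx _, ?_, (x ^ H.index) ^ v, H.zpow_mem hxi v, ?_⟩
  · rw [Subgroup.mem_centralizer_iff]
    intro h' hh'
    have hzi : (x ^ (u * (Nat.card H : ℤ))) ^ H.index = 1 := by
      rw [← zpow_natCast, ← zpow_mul, mul_assoc, mul_comm, zpow_mul]
      have h1 : x ^ ((Nat.card H : ℤ) * (H.index : ℤ)) = 1 := by
        rw [← Nat.cast_mul, zpow_natCast]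
        exact hcard
      rw [h1, one_zpow]
    have ho1 : orderOf (x ^ (u * (Nat.card H : ℤ))) ∣ H.index := orderOf_dvd_of_pow_eq_one hzi
    have ho2 : orderOf h' ∣ Nat.card H := Subgroup.orderOf_dvd_natCard H hh'
    have hco : (orderOf h').Coprime (orderOf (x ^ (u * (Nat.card H : ℤ)))) :=
      Nat.Coprime.coprime_dvd_left ho2 (Nat.Coprime.coprime_dvd_right ho1 hcop)
    exact Cfsg.Agent.Lib.Helper9.commute_of_mem_nilpotent hF (hHF hh') (F.zpow_mem hx _) hco
  · have h1 : (x ^ H.index) ^ v = x ^ (v * (H.index : ℤ)) := by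
      rw [← zpow_natCast, ← zpow_mul, mul_comm]
    rw [h1, ← zpow_add, huv, zpow_one]

theorem pkgA : Cfsg.Agent.Lib.Helper9.BG1356.PkgA.{u} := by
  intro G _ _ M
  rintro g ⟨x, hx, rfl⟩
  have hHF : fittingHall ↥M ≤ fittingSubgroup ↥M :=
    Cfsg.Agent.Lib.Helper71.le_fittingSubgroup _
      (Cfsg.Agent.Lib.Helper4.CN.fittingHall_nilpotent ↥M)
  obtain ⟨z, -, hzc, h, hh, rfl⟩ := exists_mul_of_nilpotent_hall (fittingHall ↥M)
    (fittingSubgroup ↥M) hHF Cfsg.Agent.Lib.Helper71.fittingSubgroup_isNilpotent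
    (Cfsg.Agent.Lib.Helper23.fittingHall_coprime ↥M) hx
  have h1 : (z : G) ∈ M ⊓ Subgroup.centralizer (fittingHallOf M : Set G) := by
    refine Subgroup.mem_inf.mpr ⟨z.2, ?_⟩
    rw [Subgroup.mem_centralizer_iff]
    rintro w ⟨h', hh', rfl⟩
    have := Subgroup.mem_centralizer_iff.mp hzc h' hh'
    have h2 := congrArg Subtype.val this
    simpa using h2
  have h2 : (h : G) ∈ fittingHallOf M := ⟨h, hh, rfl⟩
  have h3 : M.subtype (z * h) = (z : G) * (h : G) := by simp
  rw [h3]
  exact Subgroup.mul_mem_sup h1 h2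

end Cfsg.Agent.Lib.Helper77.BG1356
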